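import Cfsg.Agent.Lib.CosetEnum.OutPresW
import Cfsg.Agent.Lib.CosetEnum.Fi22Out.Data
import Cfsg.Agent.Lib.CosetEnum.Fi22x3510.Data

/-! The centraliser of an element of order 13 in Fi22, by sifting along a base that is one of its cycles. -/

set_option autoImplicit false
set_option maxRecDepth 20000
set_option Elab.async false

namespace Cfsg.Agent.Lib.CosetEnum.Fi23Out

open Cfsg.Agent.Lib.CosetEnum

/-- The element and its powers as words in the tabled elements. -/
noncomputable def words22 : List (List ℕ) := Fi22Out.cert.wx :: Fi22Out.cert.W.take 13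

/-- The tables of the elements and the words. -/
noncomputable def T22 : ℕ → ℕ → ℕ := tabW (tab 3510 Fi22Out.cert.P) 368 words22

theorem cent22_ok : cycBase T22 368 (Fi22Out.cert.lx :: Fi22Out.cert.lxs) = true ∧
    allBelow 3510 (centAt 3510 Fi22Out.cert.P T22 368 (Fi22Out.cert.lx :: Fi22Out.cert.lxs)
      (List.range' 369 13)) = true := by
  decide +kernel

theorem words22_ok : words22.length = 14 ∧ words22.all (fun w => w.all fun k => Nat.blt k 368) = true ∧
    (List.range' 368 14).all (fun u =>
      eqW T22 (Fi22Out.cert.bs.map OrbLevel.base) (List.replicate 13 u) []) = true ∧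
    eqW T22 (Fi22Out.cert.bs.map OrbLevel.base) [368] [] = false := by
  decide +kernel

end Cfsg.Agent.Lib.CosetEnum.Fi23Out
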