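import Cfsg.Agent.S1696
import Cfsg.Agent.Lib.CosetEnum.Fi22x3510.Enum
import Cfsg.Agent.Lib.CosetEnum.Fi22Out.CheckA
import Cfsg.Agent.Lib.CosetEnum.Fi22Out.CheckSlp
import Cfsg.Agent.Lib.CosetEnum.Fi23Out.Cent22Check

/-! In Fi22 whatever commutes with an element of order 13 has thirteenth power 1. -/

set_option autoImplicit false
set_option maxRecDepth 20000
set_option Elab.async false

namespace Cfsg.Agent.Lib.CosetEnum.Fi23Out

open Cfsg.Agent.Lib.CosetEnum

/-- The centraliser of a Sylow 13-subgroup. -/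
theorem fi22_cent13 (x y : Cfsg.Spor.Fi22) (hx : orderOf x = 13) (hy : y * x = x * y) : y ^ 13 = 1 := by
  classical
  obtain ⟨hsimple, hord⟩ := Cfsg.Agent.S1696.result
  haveI := hsimple
  haveI : Finite Cfsg.Spor.Fi22 := Nat.finite_of_card_ne_zero (by rw [hord]; norm_num)
  obtain ⟨ρ, hρ, -, htr⟩ := Fi22x3510.enum.action
  have hinj : Function.Injective ρ := by
    rw [← MonoidHom.ker_eq_bot_iff]
    rcases (MonoidHom.normal_ker ρ).eq_bot_or_eq_top with h | h
    · exact h
    · exfalso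
      obtain ⟨g, hg⟩ := htr ⟨1, by omega⟩
      have h1 : ρ g = 1 := by rw [← MonoidHom.mem_ker, h]; trivial
      rw [h1] at hg
      exact absurd (congrArg Fin.val hg) (by simp)
  have hP := slp_sound ρ (Fi22x3510.letters.phi _) hρ Fi22Out.slp_ok
  have hfix : Nat.card (fixList ρ []) ≤ 64561751654400 := by
    refine (Nat.card_le_card_of_injective (fun σ : fixList ρ [] => (⟨σ.1, σ.2.1⟩ : ρ.range))
      fun a b hab => Subtype.ext (congrArg (fun z : ρ.range => z.1) hab)).trans ?_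
    rw [← hord]
    exact Nat.card_le_card_of_surjective ρ.rangeRestrict ρ.rangeRestrict_surjective
  have htb := tight_of_levels ρ hP Fi22Out.cert.bs [] Fi22Out.bs_ok.1 (Fi22Out.bs_ok.2 ▸ hfix)
  have hbase : ∀ g : Cfsg.Spor.Fi22,
      (∀ b : Fin 3510, b.1 ∈ Fi22Out.cert.bs.map OrbLevel.base → (ρ g)⁻¹ b = b) → g = 1 := by
    intro g hg
    refine hinj ?_
    rw [map_one, ← inv_eq_one]
    exact Tight.eq_one ρ htb _ ⟨⟨g⁻¹, map_inv _ _⟩, by simp⟩ fun l hl b hb =>
      hg b (List.mem_map.2 ⟨l, hl, hb.symm⟩)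
  have hbslt : ∀ b ∈ Fi22Out.cert.bs.map OrbLevel.base, b < 3510 := by
    intro b hb
    obtain ⟨l, hl, rfl⟩ := List.mem_map.1 hb
    exact levels_base Fi22Out.bs_ok.1 l hl
  choose el₀ hel₀ using hP
  let M₀ : Model Cfsg.Spor.Fi22 3510 :=
    { ρ := ρ, inj := hinj, E := 368, el := fun k => if hk : k < 368 then el₀ k hk else 1,
      T := tab 3510 Fi22Out.cert.P,
      hel := fun k hk i => by simp only [dif_pos hk]; exact hel₀ k hk i,
      bs := Fi22Out.cert.bs.map OrbLevel.base, bs_lt := hbslt, base := hbase }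
  obtain ⟨hlen, hlt, hpow, hne⟩ := words22_ok
  simp only [List.all_eq_true, Nat.blt_eq] at hlt
  let M := M₀.extend words22 hlt
  have hE : M.E = 382 := by
    show 368 + words22.length = 382
    rw [hlen]
  have hpow13 : ∀ u ∈ List.range' 368 14, M.el u ^ 13 = 1 := by
    intro u hu
    have h := M.eq_of_eqW (w₁ := List.replicate 13 u) (w₂ := [])
      (fun k hk => by rw [List.eq_of_mem_replicate hk, hE]; rw [List.mem_range'_1] at hu; omega)
      (by simp) (List.all_eq_true.1 hpow u hu)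
    simpa only [Model.val, List.map_replicate, List.prod_replicate, List.map_nil, List.prod_nil] using h
  have hX1 : M.el 368 ≠ 1 := by
    intro h1
    have h : eqW M.T M.bs [368] [] = true :=
      (M.eqW_iff (by simp [hE]) (by simp)).2 (by simpa [Model.val] using h1)
    exact absurd (hne.symm.trans h) Bool.false_ne_true
  have hX : orderOf (M.el 368) = 13 := by
    haveI : Fact (Nat.Prime 13) := ⟨by norm_num⟩
    exact orderOf_eq_prime (hpow13 _ (by simp [List.mem_range'_1])) hX1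
  have hPM : ∀ k < 368, ∃ g : Cfsg.Spor.Fi22, ∀ i : Fin 3510,
      ((M.ρ g)⁻¹ i).1 = get32 Fi22Out.cert.P (k * 3510 + i.1) := fun k hk => ⟨el₀ k hk, hel₀ k hk⟩
  have hcent := M.cent hPM Fi22Out.cert.lx Fi22Out.cert.lxs Fi22Out.lx_ok.1
    (tight_of_levels ρ hPM _ [] Fi22Out.lx_ok.1 (Fi22Out.lx_ok.2 ▸ hfix))
    (show 368 < M.E by omega) (List.range' 369 13)
    (fun u hu => by rw [List.mem_range'_1] at hu; omega) cent22_ok.1 cent22_ok.2
  -- conjugate the given element into the known Sylow subgroup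
  haveI : Fact (Nat.Prime 13) := ⟨by norm_num⟩
  have hsylow : ∀ z : Cfsg.Spor.Fi22, orderOf z = 13 →
      Nat.card (Subgroup.zpowers z) = 13 ^ (Nat.card Cfsg.Spor.Fi22).factorization 13 := by
    intro z hz
    have h1 : (Nat.card Cfsg.Spor.Fi22).factorization 13 = 1 := by
      rw [hord]
      have hp : Nat.Prime 13 := by norm_num
      have a1 : 1 ≤ (64561751654400 : ℕ).factorization 13 :=
        (hp.pow_dvd_iff_le_factorization (by norm_num)).1 (by norm_num)
      have a2 : ¬ 2 ≤ (64561751654400 : ℕ).factorization 13 := fun h =>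
        absurd ((hp.pow_dvd_iff_le_factorization (by norm_num)).2 h) (by norm_num)
      omega
    rw [Nat.card_zpowers, hz, h1, pow_one]
  obtain ⟨g, hg⟩ := MulAction.exists_smul_eq Cfsg.Spor.Fi22
    (Sylow.ofCard _ (hsylow x hx)) (Sylow.ofCard _ (hsylow _ hX))
  have hmem : g * x * g⁻¹ ∈ Subgroup.zpowers (M.el 368) := by
    have h : g * x * g⁻¹ ∈ ((g • Sylow.ofCard _ (hsylow x hx) :
        Sylow 13 Cfsg.Spor.Fi22) : Subgroup Cfsg.Spor.Fi22) := by
      rw [Sylow.coe_subgroup_smul, Subgroup.mem_pointwise_smul_iff_inv_smul_mem]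
      simp [MulAut.smul_def, mul_assoc]
    rw [hg] at h
    exact h
  obtain ⟨j, hj⟩ := Subgroup.mem_zpowers_iff.1 hmem
  have hord' : orderOf (g * x * g⁻¹) = 13 := by
    rw [← hx]; exact (MulAut.conj g).orderOf_eq x
  have hXmem : M.el 368 ∈ Subgroup.zpowers (g * x * g⁻¹) := by
    have heq : Subgroup.zpowers (g * x * g⁻¹) = Subgroup.zpowers (M.el 368) :=
      Subgroup.eq_of_le_of_card_ge (Subgroup.zpowers_le.2 hmem)
        (by rw [Nat.card_zpowers, Nat.card_zpowers, hX, hord'])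
    rw [heq]; exact Subgroup.mem_zpowers _
  obtain ⟨i, hi⟩ := Subgroup.mem_zpowers_iff.1 hXmem
  have hc : Commute (g * y * g⁻¹) (M.el 368) := by
    rw [← hi]
    refine Commute.zpow_right ?_ i
    show g * y * g⁻¹ * (g * x * g⁻¹) = g * x * g⁻¹ * (g * y * g⁻¹)
    calc g * y * g⁻¹ * (g * x * g⁻¹) = g * (y * x) * g⁻¹ := by group
      _ = g * (x * y) * g⁻¹ := by rw [hy]
      _ = _ := by group
  obtain ⟨u, hu, hue⟩ := hcent _ hc.eq
  have h13 : (g * y * g⁻¹) ^ 13 = 1 := by
    rw [hue]; refine hpow13 u ?_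
    rw [List.mem_range'_1] at hu ⊢
    omega
  rw [conj_pow] at h13
  exact conj_eq_one_iff.1 h13

end Cfsg.Agent.Lib.CosetEnum.Fi23Out
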