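import Cfsg.Agent.Lib.CosetEnum.Fi23Out.Defs

/-! Kernel checks for the configurations of transpositions of Fi23. -/

set_option autoImplicit false
set_option maxRecDepth 20000
set_option Elab.async false

namespace Cfsg.Agent.Lib.CosetEnum.Fi23Out

open Cfsg.Agent.Lib.CosetEnum

theorem gens2_ok : orbitOK 10 31671 Fi23x31671.table gens2 Q2 pos2 R2 3159 = true := by decide +kernel

theorem cand2_ok : allBelow 31671 (fun i => !(candB 2 2 i) ||
    (force (get32 pos2 i) fun p => Nat.blt p 3159 && Nat.beq (get32 Q2 p) i)) = true := by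
  decide +kernel

theorem cand3_ok : allBelow 31671 (fun i => !(candB 3 3 i) ||
    list3.any (fun p => Nat.beq p.1 i && moveOK 3 i p.2)) = true := by
  decide +kernel

theorem candU_ok : allBelow 31671 (fun i =>
    allBelow 7 (fun k => !(candB 4 (Nat.add k 4) i)) || univ.any (Nat.beq i)) = true := by
  decide +kernel

theorem level_ok : allBelow 7 (fun k => levelOKU (Nat.add k 4)) = true := by decide +kernel

theorem fixed2_ok : gens2.all (fun w => w.all fun g => Nat.blt g 10 &&
    allBelow 2 fun m => Nat.beq (img1 g (ptL.getD m 0)) (ptL.getD m 0)) = true := by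
  decide +kernel

theorem univ_ok : univ.length = 63 ∧ repU.length = 63 ∧ allBelow 63 (fun a =>
    (repU.getD a []).all (fun g => Nat.blt g 10) && Nat.beq (sc (repU.getD a []) 0) (univ.getD a 0)) = true ∧
    allBelow 7 (fun k => Nat.beq (univ.getD (stdU.getD k 0) 0) (ptL.getD (Nat.add k 4) 0)
      && Nat.blt (stdU.getD k 0) 63) = true ∧ stdU.length = 7 ∧
    allBelow 11 (fun k => Nat.blt (ptL.getD k 0) 31671) = true := by
  decide +kernel

theorem mask_ok : allBelow 63 (fun a => allBelow 63 fun b =>
    beqB (commU a b) (Nat.beq (sc (twWord (repU.getD a [])) (univ.getD b 0)) (univ.getD b 0))) = true := by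
  decide +kernel

end Cfsg.Agent.Lib.CosetEnum.Fi23Out
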