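import Cfsg.Agent.Lib.CosetEnum.Fi23Out.Defs
import Cfsg.Agent.Lib.CosetEnum.OutTwo

/-! Kernel checks for the configurations of transpositions of Fi23. -/

set_option autoImplicit false
set_option maxRecDepth 20000
set_option Elab.async false

namespace Cfsg.Agent.Lib.CosetEnum.Fi23Out

open Cfsg.Agent.Lib.CosetEnum

theorem wx_ok : (wx.all fun g => Nat.blt g 10) = true ∧ sc wx 0 = 0 ∧ sc wx 1 ≠ 1 ∧
    sc (List.replicate 13 wx).flatten 1 = 1 ∧
    allBelow 3510 (fun m => force (get32 Fi23x31671.orbPts2 m) fun q =>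
      Nat.beq (sc (List.replicate 13 wx).flatten q) q) = true := by
  decide +kernel

theorem fix_wx : allBelow 31671 (fun i =>
    !(Nat.beq (sc wx i) i) || (Nat.beq i 0 || Nat.beq i fixA || Nat.beq i fixB)) = true := by
  decide +kernel

theorem reps_ok : sc repA 0 = fixA ∧ sc repB 0 = fixB ∧ sc rep52 0 = 52 ∧ sc repJ 0 = ptL.getD 1 0 ∧
    ((repA ++ repB ++ rep52 ++ repJ).all fun g => Nat.blt g 10) = true ∧ fixA < 31671 ∧ fixB < 31671 ∧
    inO1 wit52 = false ∧ wit52 < 31671 ∧ sc (twWord rep52) wit52 ≠ wit52 := by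
  decide +kernel

theorem jword_ok : sc (repJ ++ [7] ++ repJ.reverse) 0 = 0 ∧ sc (repJ ++ [7] ++ repJ.reverse) 1 ≠ 1 ∧
    allBelow 3510 (fun m => force (get32 Fi23x31671.orbPts2 m) fun q =>
      Nat.beq (sc (repJ ++ [7] ++ repJ.reverse) q) q) = true := by
  decide +kernel

theorem braid_ok : ([(7, 6), (6, 5), (5, 4), (4, 3), (3, 8), (8, 9), (3, 2), (2, 1), (1, 0)] : List (ℕ × ℕ)).all
    (fun p => Fi23x31671.letters.RL.any (fun l =>
      eqList l [p.1, p.2, p.1, p.2, p.1, p.2] || eqList l [p.2, p.1, p.2, p.1, p.2, p.1])) = true := by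
  decide +kernel

end Cfsg.Agent.Lib.CosetEnum.Fi23Out
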