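import Cfsg.Agent.Lib.CosetEnum.Fi23Out.Preserve

/-! The configurations of transpositions form one orbit, and so every automorphism is inner. -/

set_option autoImplicit false
set_option maxRecDepth 20000
set_option Elab.async false

namespace Cfsg.Agent.Lib.CosetEnum.Fi23Out

open Cfsg.Agent.Lib.CosetEnum

theorem beqB_eq {a b : Bool} : beqB a b = true ↔ a = b := by cases a <;> cases b <;> simp [beqB]

theorem node_lt : allBelow 10 (fun k => Nat.blt (nodeL.getD (Nat.add k 1) 0) 10) = true := by
  decide +kernel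

theorem letters_nodes : allBelow 10 (fun g => allBelow 10 (fun k => !(Nat.beq (nodeL.getD (Nat.add k 1) 0) g)) == false)
    = true := by
  decide +kernel

theorem std_take : stdU.take 0 = [] := rfl

namespace Setup

variable (S : Setup)

/-- Conditions of a configuration. -/
def IsConf (Q : ℕ → Fin 31671) : Prop :=
  ∀ k < 11, ∀ m < 11, (Commute (S.tp (Q k)) (S.tp (Q m)) ↔ Commute (S.tp (pt k)) (S.tp (pt m))) ∧
    (Q k = Q m → pt k = pt m)

theorem isConf_move {Q : ℕ → Fin 31671} (h : S.IsConf Q) (x : G) :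
    S.IsConf fun k => S.ρ x (Q k) := by
  intro k hk m hm
  refine ⟨?_, fun e => (h k hk m hm).2 ((S.ρ x).injective e)⟩
  rw [← (h k hk m hm).1, ← S.tp_conj, ← S.tp_conj]
  have e := Commute.conj_iff (a := S.tp (Q k)) (b := S.tp (Q m)) x
  exact e

theorem commB_spec {m : ℕ} (hm : m < 4) (i : Fin 31671) :
    Commute (S.tp (pt m)) (S.tp i) ↔ commB m i.1 = true := by
  rw [S.comm_iff]
  rcases Nat.eq_zero_or_pos m with rfl | hpos
  · have h0 : pt 0 = o := Fin.ext (by rw [pt_val (by norm_num)]; rfl)
    rw [h0, S.tp_o, S.zz_fix_iff]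
    show _ ↔ (!(inO1 i.1)) = true
    simp
  · have hb : Nat.beq m 0 = false := by rw [← Bool.not_eq_true, Nat.beq_eq]; omega
    have hlt := allBelow_iff.1 node_lt (m - 1) (by omega)
    rw [Nat.blt_eq, Nat.add_eq, Nat.sub_add_cancel hpos] at hlt
    rw [S.tp_pt m (by omega) (by omega),
      S.fix_iff (fun g hg => by rw [List.mem_singleton] at hg; omega)]
    simp only [commB, hb, Nat.beq_eq, img1, sc, scan, Nat.add_eq, Nat.mul_eq, force_eq]

theorem pt_ne : ∀ k m, k < 11 → m < 11 → pt k = pt m → k = m := by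
  intro k m hk hm h
  have h' := congrArg Fin.val h
  rw [pt_val hk, pt_val hm] at h'
  have hd : allBelow 11 (fun k => allBelow 11 fun m =>
      Nat.beq k m || !(Nat.beq (ptL.getD k 0) (ptL.getD m 0))) = true := by decide +kernel
  have := allBelow_iff.1 (allBelow_iff.1 hd k hk) m hm
  rw [h', Nat.beq_refl, Bool.not_true, Bool.or_false, Nat.beq_eq] at this
  exact this

theorem candB_of_conf {Q : ℕ → Fin 31671} (h : S.IsConf Q) {n k : ℕ} (hn : n ≤ 4) (hnk : n ≤ k)
    (hk : k < 11) (hpre : ∀ m < n, Q m = pt m) : candB n k (Q k).1 = true := by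
  simp only [candB, allBelow_iff, Bool.and_eq_true, Bool.not_eq_true']
  intro m hm
  obtain ⟨h1, h2⟩ := h m (by omega) k hk
  rw [hpre m hm] at h1 h2
  refine ⟨beqB_eq.2 ?_, ?_⟩
  · rw [Bool.eq_iff_iff, ← pt_val hk, ← S.commB_spec (by omega), ← S.commB_spec (by omega)]
    exact h1
  · rw [← Bool.not_eq_true, Nat.beq_eq, ← pt_val (show m < 11 by omega)]
    intro e
    have := pt_ne m k (by omega) hk (h2 (Fin.ext e.symm))
    omega

/-- The point of an index. -/
def upt (b : ℕ) : Fin 31671 := if h : univ.getD b 0 < 31671 then ⟨univ.getD b 0, h⟩ else ⟨0, by omega⟩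

theorem upt_val {b : ℕ} (hb : b < 63) : (upt b).1 = univ.getD b 0 := by
  have hd : allBelow 63 (fun b => Nat.blt (univ.getD b 0) 31671) = true := by decide +kernel
  have h := allBelow_iff.1 hd b hb
  rw [Nat.blt_eq] at h
  rw [upt, dif_pos h]

theorem stdU_spec {m : ℕ} (hm : m < 7) : stdU.getD m 0 < 63 ∧ upt (stdU.getD m 0) = pt (m + 4) := by
  have h := allBelow_iff.1 univ_ok.2.2.2.1 m hm
  simp only [Bool.and_eq_true, Nat.beq_eq, Nat.blt_eq, Nat.add_eq] at h
  exact ⟨h.2, Fin.ext (by rw [upt_val h.2, pt_val (by omega)]; exact h.1)⟩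

theorem commU_spec {a b : ℕ} (ha : a < 63) (hb : b < 63) :
    Commute (S.tp (upt a)) (S.tp (upt b)) ↔ commU a b = true := by
  have hr := allBelow_iff.1 univ_ok.2.2.1 a ha
  simp only [Bool.and_eq_true, List.all_eq_true, Nat.blt_eq, Nat.beq_eq] at hr
  rw [S.comm_iff, S.tp_word hr.1 (hr.2.trans (upt_val ha).symm), S.fix_iff (twWord_lt hr.1),
    upt_val hb, beqB_eq.1 (allBelow_iff.1 (allBelow_iff.1 mask_ok a ha) b hb), Nat.beq_eq]

theorem mem_univ_of_conf {Q : ℕ → Fin 31671} (h : S.IsConf Q) (hpre : ∀ m < 4, Q m = pt m)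
    {k : ℕ} (h4 : 4 ≤ k) (hk : k < 11) : ∃ b < 63, Q k = upt b := by
  have hc := S.candB_of_conf h le_rfl h4 hk hpre
  have hu := allBelow_iff.1 candU_ok (Q k).1 (Q k).2
  rw [Bool.or_eq_true] at hu
  rcases hu with hu | hu
  · have := allBelow_iff.1 hu (k - 4) (by omega)
    rw [Nat.add_eq, Nat.sub_add_cancel h4, hc] at this
    simp at this
  · obtain ⟨u, hu, hue⟩ := List.any_eq_true.1 hu
    obtain ⟨b, hb, rfl⟩ := List.mem_iff_getElem.1 hu
    have hb' : b < 63 := univ_ok.1 ▸ hb
    refine ⟨b, hb', Fin.ext ?_⟩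
    rw [upt_val hb', List.getD_eq_getElem _ _ hb]
    exact Nat.eq_of_beq_eq_true hue

theorem okU_of_conf {Q : ℕ → Fin 31671} (h : S.IsConf Q) (hpre : ∀ m < 4, Q m = pt m)
    {k : ℕ} (h4 : 4 ≤ k) (hk : k < 11) (as : List ℕ) (hlen : as.length = k - 4)
    (has : ∀ m < as.length, as.getD m 0 < 63 ∧ Q (m + 4) = upt (as.getD m 0))
    {b : ℕ} (hb : b < 63) (hbQ : Q k = upt b) : okU k as b = true := by
  simp only [okU, allBelow_iff, Bool.and_eq_true, Bool.not_eq_true']
  refine ⟨?_, fun m hm => ?_⟩
  · have hc := S.candB_of_conf h le_rfl h4 hk hpre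
    rwa [hbQ, upt_val hb] at hc
  · obtain ⟨ha, hae⟩ := has m hm
    obtain ⟨h1, h2⟩ := h (m + 4) (by omega) k hk
    rw [hae, hbQ] at h1 h2
    obtain ⟨hs1, hs2⟩ := stdU_spec (show m < 7 by omega)
    obtain ⟨ht1, ht2⟩ := stdU_spec (show k - 4 < 7 by omega)
    rw [Nat.sub_add_cancel h4] at ht2
    refine ⟨beqB_eq.2 ?_, ?_⟩
    · rw [Bool.eq_iff_iff, ← S.commU_spec ha hb, Nat.sub_eq, ← S.commU_spec hs1 ht1, hs2, ht2]
      exact h1
    · rw [← Bool.not_eq_true, Nat.beq_eq]
      intro e
      have := pt_ne (m + 4) k (by omega) hk (h2 (by rw [e]))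
      omega

theorem not_dead : ∀ n k, k + n = 11 → 4 ≤ k → ∀ (Q : ℕ → Fin 31671), S.IsConf Q →
    (∀ m < 4, Q m = pt m) → ∀ as : List ℕ, as.length = k - 4 →
    (∀ m < as.length, as.getD m 0 < 63 ∧ Q (m + 4) = upt (as.getD m 0)) →
    dead (List.range' k n) as = false := by
  intro n
  induction n with
  | zero => intro k _ _ Q _ _ as _ _; rfl
  | succ n ih =>
    intro k hkn h4 Q h hpre as hlen has
    rw [List.range'_succ, dead, ← Bool.not_eq_true, allBelow_iff]
    intro hall
    obtain ⟨b, hb, hbQ⟩ := S.mem_univ_of_conf h hpre h4 (by omega)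
    have hok := S.okU_of_conf h hpre h4 (by omega) as hlen has hb hbQ
    have hd := hall b hb
    rw [hok] at hd
    simp only [Bool.not_true, Bool.false_or] at hd
    rw [ih (k + 1) (by omega) (by omega) Q h hpre (as ++ [b]) (by simp [hlen]; omega) ?_] at hd
    · exact Bool.noConfusion hd
    · intro m hm
      rw [List.length_append, List.length_singleton] at hm
      rcases Nat.lt_or_ge m as.length with hm' | hm'
      · rw [List.getD_append _ _ _ _ hm']; exact has m hm'
      · obtain rfl : m = as.length := by omega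
        rw [List.getD_append_right _ _ _ _ le_rfl, Nat.sub_self]
        exact ⟨hb, by rw [show as.length + 4 = k by omega]; exact hbQ⟩

/-- A listed move. -/
theorem move_spec {k : ℕ} (hk : k < 11) {c : Fin 31671} {w : List ℕ} (h : moveOK k c.1 w = true) :
    ∃ x : G, S.ρ x c = pt k ∧ ∀ m < k, S.ρ x (pt m) = pt m := by
  simp only [moveOK, Bool.and_eq_true, Nat.beq_eq, List.all_eq_true, Nat.blt_eq, allBelow_iff] at h
  obtain ⟨h1, h2⟩ := h
  have hw : ∀ g ∈ w, g < 10 := fun g hg => (h2 g hg).1
  refine ⟨(val w)⁻¹, ?_, fun m hm => ?_⟩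
  · rw [map_inv]
    exact Fin.ext ((S.app hw c).trans (h1.trans (pt_val hk).symm))
  · rw [map_inv]
    refine Fin.ext ((S.app hw _).trans ?_)
    clear h1
    induction w with
    | nil => rfl
    | cons g w ih =>
      have hg := (h2 g List.mem_cons_self).2 m hm
      simp only [img1, Nat.add_eq, Nat.mul_eq, ← pt_val (show m < 11 by omega)] at hg
      show force (get32 Fi23x31671.table (Nat.add (Nat.mul (pt m).1 10) g))
        (scan 10 Fi23x31671.table w) = (pt m).1
      rw [force_eq, Nat.add_eq, Nat.mul_eq, hg]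
      exact ih (fun a ha => h2 a (List.mem_cons_of_mem _ ha)) fun a ha => hw a (List.mem_cons_of_mem _ ha)

/-- The step: the next point can be moved to the standard one keeping the earlier ones. -/
theorem step {Q : ℕ → Fin 31671} (h : S.IsConf Q) {k : ℕ} (hk : k < 11)
    (hpre : ∀ m < k, Q m = pt m) :
    ∃ x : G, S.ρ x (Q k) = pt k ∧ ∀ m < k, S.ρ x (pt m) = pt m := by
  rcases Nat.lt_or_ge k 4 with hk4 | hk4
  · match k, hk4 with
    | 0, _ =>
      refine ⟨S.tr (pt 0) * (S.tr (Q 0))⁻¹, ?_, by omega⟩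
      rw [map_mul, map_inv, Equiv.Perm.mul_apply]
      have : (S.ρ (S.tr (Q 0)))⁻¹ (Q 0) = o := by
        rw [Equiv.Perm.inv_eq_iff_eq, S.tr_spec]
      rw [this, S.tr_spec]
    | 1, _ =>
      have hin : ∀ i : Fin 31671, commB 0 i.1 = false → ∃ a ∈ J, S.ρ a ⟨1, by omega⟩ = i := by
        intro i hi
        refine S.inO1_mem ?_
        simpa [commB] using hi
      have hc := S.candB_of_conf h (n := 1) (k := 1) (by omega) le_rfl (by omega) hpre
      simp only [candB, allBelow_iff, Bool.and_eq_true, beqB_eq] at hc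
      have hp : commB 0 (ptL.getD 1 0) = false := by decide +kernel
      obtain ⟨a, ha, hae⟩ := hin (Q 1) ((hc 0 (by omega)).1.trans hp)
      obtain ⟨a', ha', hae'⟩ := hin (pt 1) (by rw [pt_val (by omega)]; exact hp)
      refine ⟨a' * a⁻¹, ?_, fun m hm => ?_⟩
      · rw [← hae, ← Equiv.Perm.mul_apply, ← map_mul, inv_mul_cancel_right, hae']
      · obtain rfl : m = 0 := by omega
        rw [show pt 0 = o from Fin.ext (by rw [pt_val (by norm_num)]; rfl)]
        exact (S.hst _).1 (mul_mem ha' (inv_mem ha))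
    | 2, _ =>
      have hc := allBelow_iff.1 cand2_ok (Q 2).1 (Q 2).2
      rw [S.candB_of_conf h (n := 2) (k := 2) (by omega) le_rfl (by omega) hpre] at hc
      simp only [Bool.not_true, Bool.false_or, force_eq, Bool.and_eq_true, Nat.blt_eq, Nat.beq_eq] at hc
      have hHL : ∀ l ∈ gens2, ∀ g ∈ l, g < 10 := by
        intro l hl g hg
        have := List.all_eq_true.1 (List.all_eq_true.1 fixed2_ok l hl) g hg
        simp only [Bool.and_eq_true, Nat.blt_eq] at this
        exact this.1
      obtain ⟨a, ha, hae⟩ := (orbit_spec Fi23x31671.letters _ 31671 Fi23x31671.table S.ρ S.hρ gens2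
        hHL Q2 pos2 R2 3159 gens2_ok (pt 2) (by omega)
        (by rw [pt_val (by omega)]; decide +kernel)).2.2 _ hc.1 (Q 2) hc.2.symm
      refine ⟨a⁻¹, by rw [← hae, map_inv]; simp, fun m hm => ?_⟩
      have hfix : S.ρ a (pt m) = pt m := by
        clear hae
        induction ha using Subgroup.closure_induction with
        | mem a ha =>
          obtain ⟨l, hl, rfl⟩ := ha
          change S.ρ (val l) (pt m) = pt m
          rw [S.fix_iff (hHL l hl)]
          have h2 := List.all_eq_true.1 fixed2_ok l hl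
          clear hl
          induction l with
          | nil => rfl
          | cons g l ih =>
            simp only [List.all_cons, Bool.and_eq_true, allBelow_iff, Nat.beq_eq] at h2
            have hg := h2.1.2 m hm
            simp only [img1, Nat.add_eq, Nat.mul_eq, ← pt_val (show m < 11 by omega)] at hg
            show force (get32 Fi23x31671.table (Nat.add (Nat.mul (pt m).1 10) g))
              (scan 10 Fi23x31671.table l) = (pt m).1
            rw [force_eq, Nat.add_eq, Nat.mul_eq, hg]
            exact ih (by simpa [List.all_cons, Bool.and_eq_true, allBelow_iff] using h2.2)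
        | one => rw [map_one]; rfl
        | mul a b _ _ iha ihb => rw [map_mul, Equiv.Perm.mul_apply, ihb, iha]
        | inv a _ iha =>
          rw [map_inv, Equiv.Perm.inv_eq_iff_eq, iha]
      rw [map_inv, Equiv.Perm.inv_eq_iff_eq, hfix]
    | 3, _ =>
      have hc := allBelow_iff.1 cand3_ok (Q 3).1 (Q 3).2
      rw [S.candB_of_conf h (n := 3) (k := 3) (by omega) le_rfl (by omega) hpre] at hc
      simp only [Bool.not_true, Bool.false_or, List.any_eq_true, Bool.and_eq_true, Nat.beq_eq] at hc
      obtain ⟨p, -, -, hp⟩ := hc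
      exact S.move_spec (by omega) hp
  · have hpre4 : ∀ m < 4, Q m = pt m := fun m hm => hpre m (by omega)
    obtain ⟨b, hb, hbQ⟩ := S.mem_univ_of_conf h hpre4 hk4 hk
    have hlen : (stdU.take (k - 4)).length = k - 4 := by
      rw [List.length_take, univ_ok.2.2.2.2.1]; omega
    have has : ∀ m < (stdU.take (k - 4)).length, (stdU.take (k - 4)).getD m 0 < 63 ∧
        Q (m + 4) = upt ((stdU.take (k - 4)).getD m 0) := by
      intro m hm
      rw [List.getD_eq_getElem _ _ hm, List.getElem_take, ← List.getD_eq_getElem _ 0]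
      rw [hlen] at hm
      obtain ⟨hs1, hs2⟩ := stdU_spec (show m < 7 by omega)
      exact ⟨hs1, by rw [hs2]; exact hpre _ (by omega)⟩
    have hok := S.okU_of_conf h hpre4 hk4 hk _ hlen has hb hbQ
    have hl := allBelow_iff.1 level_ok (k - 4) (by omega)
    rw [Nat.add_eq, Nat.sub_add_cancel hk4, levelOKU, allBelow_iff] at hl
    have hl' := hl b hb
    simp only [Nat.sub_eq, Nat.add_eq] at hl'
    rw [hok] at hl'
    simp only [Bool.not_true, Bool.false_or, Bool.or_eq_true] at hl'
    rcases hl' with hmv | hdead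
    · simp only [List.any_eq_true, Bool.and_eq_true, Nat.beq_eq] at hmv
      obtain ⟨p, -, -, hp⟩ := hmv
      rw [← upt_val hb, ← hbQ] at hp
      exact S.move_spec hk hp
    · exfalso
      rw [S.not_dead (10 - k) (k + 1) (by omega) (by omega) Q h hpre4 _ (by simp [hlen]; omega) ?_]
        at hdead
      · exact Bool.noConfusion hdead
      · intro m hm
        rw [List.length_append, List.length_singleton] at hm
        rcases Nat.lt_or_ge m (stdU.take (k - 4)).length with hm' | hm'
        · rw [List.getD_append _ _ _ _ hm']; exact has m hm'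
        · obtain rfl : m = (stdU.take (k - 4)).length := by omega
          rw [List.getD_append_right _ _ _ _ le_rfl, Nat.sub_self, hlen]
          exact ⟨hb, by rw [show k - 4 + 4 = k by omega]; exact hbQ⟩

/-- All configurations are conjugate. -/
theorem conf_unique {Q : ℕ → Fin 31671} (h : S.IsConf Q) :
    ∀ k ≤ 11, ∃ x : G, ∀ m < k, S.ρ x (Q m) = pt m := by
  intro k
  induction k with
  | zero => exact fun _ => ⟨1, by omega⟩
  | succ k ih =>
    intro hk
    obtain ⟨x, hx⟩ := ih (by omega)
    obtain ⟨y, hy, hy'⟩ := S.step (S.isConf_move h x) (k := k) (by omega) hx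
    refine ⟨y * x, fun m hm => ?_⟩
    rw [map_mul, Equiv.Perm.mul_apply]
    rcases Nat.lt_or_ge m k with hm' | hm'
    · rw [hx m hm', hy' m hm']
    · obtain rfl : m = k := by omega
      exact hy

open Cfsg in
/-- Every automorphism is inner. -/
theorem inn_eq_top (S : Setup) : Inn G = ⊤ := by
  rw [eq_top_iff]
  rintro φ -
  obtain ⟨p, hp⟩ := S.image_zz φ
  have hQ : ∀ i : Fin 31671, ∃ q, φ (S.tp i) = S.tp q := by
    intro i
    refine ⟨S.ρ (φ (S.tr i)) p, ?_⟩
    rw [← S.tp_conj, ← hp, tp, map_mul, map_mul, map_inv]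
  choose q hq using hQ
  have hconf : S.IsConf fun k => q (pt k) := by
    intro k _ m _
    refine ⟨?_, fun e => ?_⟩
    · rw [← hq, ← hq]
      constructor
      · intro hc
        exact φ.injective (by rw [map_mul, map_mul]; exact hc.eq)
      · intro hc
        exact hc.map φ.toMonoidHom
    · refine S.tp_inj (φ.injective ?_)
      rw [hq, hq]
      exact congrArg _ e
  obtain ⟨x, hx⟩ := S.conf_unique hconf 11 le_rfl
  refine ⟨x⁻¹, ?_⟩
  have hfix : ∀ g < 10, φ (Fi23x31671.letters.phi _ g) = x⁻¹ * Fi23x31671.letters.phi _ g * x := by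
    intro g hg
    have hl := allBelow_iff.1 letters_nodes g hg
    rw [beq_iff_eq, ← Bool.not_eq_true, allBelow_iff] at hl
    push Not at hl
    obtain ⟨k, hk, hkg⟩ := hl
    simp only [Bool.not_eq_true', Bool.not_eq_false, Nat.beq_eq, Nat.add_eq, ne_eq] at hkg
    have hkk : k + 1 < 11 := by omega
    have e := S.tp_pt (k + 1) hkk (by omega)
    rw [hkg, val_singleton] at e
    have e' : φ (Fi23x31671.letters.phi _ g) = S.tp (q (pt (k + 1))) := by rw [← e]; exact hq _
    have e'' := S.tp_conj x (q (pt (k + 1)))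
    rw [hx _ hkk, e] at e''
    rw [e', ← e'']
    group
  refine MulEquiv.ext fun y => ?_
  have heq : (MulAut.conj x⁻¹).toMonoidHom = φ.toMonoidHom := by
    refine MonoidHom.eq_of_eqOn_dense
      (Letters.gen_closure (L := Fi23x31671.letters) (S := Fi23x31671.pres)
        Fi23x31671.table_ok.col) ?_
    rintro _ ⟨g, hg, rfl⟩
    show MulAut.conj x⁻¹ _ = φ _
    rw [hfix g hg, MulAut.conj_apply, inv_inv]
  exact DFunLike.congr_fun heq y

end Setup

open Cfsg in
/-- The outer automorphism group is trivial. -/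
theorem card_out : Nat.card (Out G) = 1 := by
  obtain ⟨S⟩ := exists_setup
  have h := S.inn_eq_top
  show Nat.card (MulAut G ⧸ Inn G) = 1
  rw [h]
  exact Subgroup.index_top

end Cfsg.Agent.Lib.CosetEnum.Fi23Out
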