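import Cfsg.Agent.Lib.CosetEnum.Fi23Out.Data

/-! The checkers for configurations of transpositions of Fi23. -/

set_option autoImplicit false
set_option maxRecDepth 20000
set_option Elab.async false

namespace Cfsg.Agent.Lib.CosetEnum.Fi23Out

open Cfsg.Agent.Lib.CosetEnum

/-- A point under a word of letters. -/
noncomputable def sc (w : List ℕ) (i : ℕ) : ℕ := scan 10 Fi23x31671.table w i

/-- A point under a letter. -/
noncomputable def img1 (g i : ℕ) : ℕ := get32 Fi23x31671.table (Nat.add (Nat.mul i 10) g)

/-- Membership in the suborbit of length 28160. -/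
noncomputable def inO1 (i : ℕ) : Bool :=
  force (get32 Fi23x31671.orbPos1 i) fun p =>
    Nat.blt p 28160 && Nat.beq (get32 Fi23x31671.orbPts1 p) i

/-- The word of the transposition of a point reached by `r`. -/
def twWord (r : List ℕ) : List ℕ := r.reverse ++ Fi23Orbit.zWord ++ r

/-- Whether the transposition of the standard point `m` (for `m < 4`) fixes `i`. -/
noncomputable def commB (m i : ℕ) : Bool :=
  Bool.rec (Nat.beq (img1 (nodeL.getD m 0) i) i) (!(inO1 i)) (Nat.beq m 0)

/-- Equality of truth values. -/
def beqB (a b : Bool) : Bool := cond a b (!b)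

/-- The conditions on node `k` from the standard points `m < n`. -/
noncomputable def candB (n k i : ℕ) : Bool :=
  allBelow n fun m => beqB (commB m i) (commB m (ptL.getD k 0)) && !(Nat.beq i (ptL.getD m 0))

/-- Whether the transposition of the `a`-th point fixes the `b`-th. -/
def commU (a b : ℕ) : Bool := Nat.testBit (maskU.getD a 0) b

/-- The conditions on node `k` given indices for the nodes from `4` on. -/
noncomputable def okU (k : ℕ) (as : List ℕ) (b : ℕ) : Bool :=
  candB 4 k (univ.getD b 0) &&
    allBelow as.length fun m =>
      beqB (commU (as.getD m 0) b) (commU (stdU.getD m 0) (stdU.getD (Nat.sub k 4) 0)) &&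
        !(Nat.beq (as.getD m 0) b)

/-- No extension to the remaining nodes exists. -/
noncomputable def dead : List ℕ → List ℕ → Bool
  | [], _ => false
  | k :: ks, as => allBelow 63 fun b => !(okU k as b) || dead ks (as ++ [b])

/-- The word `w` takes `c` to the standard point `k` and its letters fix the earlier ones. -/
noncomputable def moveOK (k c : ℕ) (w : List ℕ) : Bool :=
  Nat.beq (sc w c) (ptL.getD k 0) &&
    w.all fun g => Nat.blt g 10 &&
      allBelow k fun m => Nat.beq (img1 g (ptL.getD m 0)) (ptL.getD m 0)

/-- Every candidate for node `k ≥ 4` moves to the standard point or is dead. -/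
noncomputable def levelOKU (k : ℕ) : Bool :=
  allBelow 63 fun b => !(okU k (stdU.take (Nat.sub k 4)) b) ||
    ((listU.getD (Nat.sub k 4) []).any fun p => Nat.beq p.1 b && moveOK k (univ.getD b 0) p.2) ||
    dead (List.range' (Nat.add k 1) (Nat.sub 10 k)) (stdU.take (Nat.sub k 4) ++ [b])

end Cfsg.Agent.Lib.CosetEnum.Fi23Out
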