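import Cfsg.Agent.S1697
import Cfsg.Agent.Lib.CosetEnum.Fi23Out.Cent22
import Cfsg.Agent.Lib.CosetEnum.Fi23Out.CheckElt
import Cfsg.Agent.Lib.CosetEnum.Fi23Out.CheckConf
import Cfsg.Prelude.Def_KGroupFacts

/-!
Every automorphism of Fi23 is inner: it preserves the class of transpositions, and the configurations
of transpositions with the commuting pattern of the generators form one orbit.
-/

set_option autoImplicit false
set_option maxRecDepth 20000
set_option Elab.async false

namespace Cfsg.Agent.Lib.CosetEnum.Fi23Out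

open Cfsg.Agent.Lib.CosetEnum

/-- The presented group. -/
abbrev G : Type := Fi23Orbit.G

/-- The point stabiliser 2.Fi22. -/
noncomputable abbrev J : Subgroup G := Fi23Orbit.J

/-- The element of a word. -/
noncomputable def val (w : List ℕ) : G := (w.map (Fi23x31671.letters.phi Fi23x31671.pres)).prod

/-- The central involution of the stabiliser. -/
noncomputable def zz : G := val Fi23Orbit.zWord

theorem val_append (v w : List ℕ) : val (v ++ w) = val v * val w := by
  simp [val, List.map_append, List.prod_append]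

theorem val_singleton (g : ℕ) : val [g] = Fi23x31671.letters.phi Fi23x31671.pres g := by
  simp [val]

theorem val_rel {l : List ℕ} (hl : l ∈ Fi23x31671.letters.RL) : val l = 1 :=
  Letters.prod_rel Fi23x31671.rels_mem Fi23x31671.letters_ok Fi23x31671.table_ok.col hl

theorem sq_letters : allBelow 10 (fun g => Fi23x31671.letters.RL.any (eqList [g, g])) = true := by
  decide +kernel

theorem val_letter_sq {g : ℕ} (hg : g < 10) : val [g] * val [g] = 1 := by
  have h := allBelow_iff.1 sq_letters g hg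
  obtain ⟨l, hl, hle⟩ := List.any_eq_true.1 h
  rw [← val_append, List.singleton_append, eqList_eq hle]
  exact val_rel hl

theorem val_reverse : ∀ w : List ℕ, (∀ g ∈ w, g < 10) → val w.reverse = (val w)⁻¹ := by
  intro w
  induction w with
  | nil => intro _; simp [val]
  | cons g w ih =>
    intro hw
    rw [List.reverse_cons, val_append, ih fun a ha => hw a (List.mem_cons_of_mem _ ha),
      show val (g :: w) = val [g] * val w from val_append [g] w, mul_inv_rev]
    congr 1
    exact eq_inv_of_mul_eq_one_left (val_letter_sq (hw g List.mem_cons_self))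

/-- What is used of the action and of the stabiliser. -/
structure Setup where
  ρ : G →* Equiv.Perm (Fin 31671)
  hρ : ∀ g < 10, ∀ i : Fin 31671, ((ρ (Fi23x31671.letters.phi _ g))⁻¹ i).1 =
    get32 Fi23x31671.table (i.1 * 10 + g)
  inj : Function.Injective ρ
  hst : ∀ x, x ∈ J ↔ ρ x ⟨0, by omega⟩ = ⟨0, by omega⟩
  htr : ∀ i, ∃ x, ρ x ⟨0, by omega⟩ = i
  card : Nat.card G = 4089470473293004800
  central : ∀ x ∈ J, x * zz = zz * x
  zz_sq : zz * zz = 1
  /-- an element of the stabiliser trivial on the second suborbit is 1 or z -/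
  kerJ : ∀ x ∈ J, (∀ m < 3510, ∀ i : Fin 31671, i.1 = get32 Fi23x31671.orbPts2 m → ρ x i = i) →
    x = 1 ∨ x = zz
  /-- in the stabiliser an involution commuting with an element of order 13 is z -/
  cent13 : ∀ u ∈ J, ∀ y ∈ J, orderOf u = 13 → y * u = u * y → y * y = 1 → y ≠ 1 → y = zz

theorem exists_setup : Nonempty Setup := by
  classical
  obtain ⟨ρ, -, hρ, hst, htr, hinj, -, -, -, hz1, hG, hJ⟩ := Fi23Orbit.main
  haveI : Finite G := Nat.finite_of_card_ne_zero (by rw [hG]; norm_num)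
  obtain ⟨ρJ, hρJ, hker⟩ := exists_restrict ρ hρ Fi23Orbit.emb (by decide +kernel) _ _ _
    Fi23Orbit.restrict_ok
  have hge : 64561751654400 ≤ Nat.card ρJ.range :=
    Fi23Slp.card_ge ρJ (fun g => if hg : g < Fi23Orbit.emb.length then Fi23Orbit.gen g hg else 1)
      fun g hg m => by
        have hg' : g < Fi23Orbit.emb.length := hg
        simp only [dif_pos hg']
        exact hρJ g hg' m
  have hzJ : ρJ Fi23Orbit.z = 1 := by
    rw [hker]
    rintro i ⟨hi, hi'⟩
    have h := Nat.eq_of_beq_eq_true (allBelow_iff.1 Fi23Orbit.zWord_fix _ hi')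
    rw [← hi, ← rho_scan Fi23x31671.letters _ ρ hρ _ Fi23Orbit.zWord_lt i] at h
    have h' := congrArg (ρ Fi23Orbit.z.1) (Fin.ext h : (ρ Fi23Orbit.z.1)⁻¹ i = i)
    rw [Equiv.Perm.inv_def, Equiv.apply_symm_apply] at h'
    exact h'.symm
  have hkercard : Nat.card ρJ.ker ≤ 2 := by
    have h1 := ρJ.ker.card_mul_index
    rw [Subgroup.index_ker, hJ] at h1
    by_contra hlt
    have h3 : 3 * 64561751654400 ≤ Nat.card ρJ.ker * Nat.card ρJ.range :=
      Nat.mul_le_mul (by omega) hge
    omega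
  have hker2 : ∀ x : J, ρJ x = 1 → x = 1 ∨ x = Fi23Orbit.z := by
    intro x hx
    by_contra hne
    rw [not_or] at hne
    have : 3 ≤ Nat.card ρJ.ker := by
      have hinj' : Function.Injective
          (![⟨1, one_mem _⟩, ⟨Fi23Orbit.z, hzJ⟩, ⟨x, hx⟩] : Fin 3 → ρJ.ker) := by
        intro a b hab
        fin_cases a <;> fin_cases b <;>
          simp [Subtype.ext_iff, hz1, Ne.symm hz1, hne.1, hne.2, Ne.symm hne.1, Ne.symm hne.2] at hab ⊢
      simpa using Nat.card_le_card_of_injective _ hinj'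
    omega
  have hkerJ : ∀ x ∈ J, (∀ m < 3510, ∀ i : Fin 31671, i.1 = get32 Fi23x31671.orbPts2 m → ρ x i = i) →
      x = 1 ∨ x = zz := by
    intro x hx hfix
    have h1 : ρJ ⟨x, hx⟩ = 1 := by
      rw [hker]
      rintro i ⟨hi, hi'⟩
      exact hfix _ hi' i hi
    rcases hker2 _ h1 with h | h
    · exact Or.inl (congrArg Subtype.val h)
    · exact Or.inr (congrArg Subtype.val h)
  -- the image is Fi22
  obtain ⟨ψ, hψ⟩ := exists_tableHom Fi22x3510.letters
    (Cfsg.Spor.coxRelators Cfsg.Spor.Fi22.edges ∪ {r | r ∈ Cfsg.Spor.Fi22.extra})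
    (sameRels_cox Fi22x3510.letters [Cfsg.Spor.Fi22.Gen.a, Cfsg.Spor.Fi22.Gen.b, Cfsg.Spor.Fi22.Gen.c,
      Cfsg.Spor.Fi22.Gen.d, Cfsg.Spor.Fi22.Gen.e, Cfsg.Spor.Fi22.Gen.f, Cfsg.Spor.Fi22.Gen.g,
      Cfsg.Spor.Fi22.Gen.h, Cfsg.Spor.Fi22.Gen.i] _ _ rfl (by decide +kernel))
    Fi22x3510.letters_ok Fi23Orbit.table_ok
  have hlen : Fi23Orbit.emb.length = Fi22x3510.letters.K := by decide +kernel
  have hgen : ∀ g, ∀ hg : g < Fi23Orbit.emb.length,
      ψ (Fi22x3510.letters.phi _ g) = ρJ (Fi23Orbit.gen g hg) := by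
    intro g hg
    refine inv_injective (Equiv.ext fun m => Fin.ext ?_)
    have h1 := hψ g (by omega) m
    rw [← hlen] at h1
    exact h1.trans (hρJ g hg m).symm
  have hrange : ρJ.range ≤ ψ.range := by
    rw [MonoidHom.range_eq_map, ← Fi23Orbit.gen_closure, MonoidHom.map_closure, Subgroup.closure_le]
    rintro _ ⟨_, ⟨g, hg, rfl⟩, rfl⟩
    exact ⟨_, hgen g hg⟩
  obtain ⟨hsimple, -⟩ := Cfsg.Agent.S1696.result
  have hψinj : Function.Injective ψ := by
    haveI := hsimple
    rw [← MonoidHom.ker_eq_bot_iff]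
    rcases (MonoidHom.normal_ker ψ).eq_bot_or_eq_top with h | h
    · exact h
    · exfalso
      have hbot : ρJ.range ≤ ⊥ := hrange.trans (le_of_eq (by
        rw [eq_bot_iff]; rintro _ ⟨v, rfl⟩
        exact MonoidHom.mem_ker.1 (h ▸ Subgroup.mem_top v)))
      have h1 : Nat.card ρJ.range ≤ 1 := by
        rw [le_bot_iff.1 hbot, Subgroup.card_bot]
      omega
  have hz2 : Fi23Orbit.z * Fi23Orbit.z = 1 := by
    rcases hker2 (Fi23Orbit.z * Fi23Orbit.z) (by rw [map_mul, hzJ, mul_one]) with e | e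
    · exact e
    · exact absurd (mul_eq_left.1 e) hz1
  have hcentral : ∀ x ∈ J, x * zz = zz * x := by
    intro x hx
    have h1 : ρJ (⟨x, hx⟩ * Fi23Orbit.z * (⟨x, hx⟩ : J)⁻¹) = 1 := by
      rw [map_mul, map_mul, hzJ, mul_one, ← map_mul, mul_inv_cancel, map_one]
    rcases hker2 _ h1 with e | e
    · exact absurd (conj_eq_one_iff.1 e) hz1
    · exact congrArg Subtype.val (mul_inv_eq_iff_eq_mul.1 e)
  refine ⟨⟨ρ, hρ, hinj, hst, htr, hG, hcentral, congrArg Subtype.val hz2, hkerJ, ?_⟩⟩
  intro u hu y hy hord hcomm hy2 hy1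
  obtain ⟨u', hu'⟩ := hrange ⟨⟨u, hu⟩, rfl⟩
  obtain ⟨y', hy'⟩ := hrange ⟨⟨y, hy⟩, rfl⟩
  have hu13 : u ^ 13 = 1 := hord ▸ pow_orderOf_eq_one u
  have hord' : orderOf u' = 13 := by
    haveI : Fact (Nat.Prime 13) := ⟨by norm_num⟩
    refine orderOf_eq_prime (hψinj ?_) fun h => ?_
    · rw [map_pow, hu', ← map_pow, map_one,
        show (⟨u, hu⟩ : J) ^ 13 = 1 from Subtype.ext hu13, map_one]
    · rw [h, map_one] at hu'
      rcases hker2 _ hu'.symm with h' | h'
      · have e : u = 1 := congrArg Subtype.val h'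
        rw [e, orderOf_one] at hord
        exact absurd hord (by norm_num)
      · have e13 : Fi23Orbit.z ^ 13 = 1 := by rw [← h']; exact Subtype.ext hu13
        rw [show (13 : ℕ) = 2 * 6 + 1 from rfl, pow_succ, pow_mul, pow_two, hz2, one_pow, one_mul] at e13
        exact hz1 e13
  have hc : y' * u' = u' * y' := hψinj (by
    rw [map_mul, map_mul, hu', hy', ← map_mul, ← map_mul]
    exact congrArg ρJ (Subtype.ext hcomm))
  have h13 := fi22_cent13 u' y' hord' hc
  have h2 : y' * y' = 1 := hψinj (by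
    rw [map_mul, hy', ← map_mul, map_one, show (⟨y, hy⟩ : J) * ⟨y, hy⟩ = 1 from Subtype.ext hy2, map_one])
  have hy'1 : y' = 1 := by
    rwa [show (13 : ℕ) = 2 * 6 + 1 from rfl, pow_succ, pow_mul, pow_two, h2, one_pow, one_mul] at h13
  rw [hy'1, map_one] at hy'
  rcases hker2 _ hy'.symm with h | h
  · exact absurd (congrArg Subtype.val h) hy1
  · exact congrArg Subtype.val h

namespace Setup

variable (S : Setup)

/-- The base point. -/
def o : Fin 31671 := ⟨0, by omega⟩

theorem app {w : List ℕ} (hw : ∀ g ∈ w, g < 10) (i : Fin 31671) :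
    ((S.ρ (val w))⁻¹ i).1 = sc w i.1 :=
  rho_scan Fi23x31671.letters _ S.ρ S.hρ w hw i

/-- A word that scans `i` to `j` gives an element moving `j` to `i`. -/
theorem move {w : List ℕ} (hw : ∀ g ∈ w, g < 10) {i j : Fin 31671} (h : sc w i.1 = j.1) :
    S.ρ (val w) j = i := by
  have h' : (S.ρ (val w))⁻¹ i = j := Fin.ext ((S.app hw i).trans h)
  rw [← h']
  simp

theorem fix_iff {w : List ℕ} (hw : ∀ g ∈ w, g < 10) (i : Fin 31671) :
    S.ρ (val w) i = i ↔ sc w i.1 = i.1 := by
  rw [← S.app hw i, ← Fin.ext_iff, Equiv.Perm.inv_eq_iff_eq]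
  exact ⟨Eq.symm, Eq.symm⟩

theorem zWord_lt : ∀ g ∈ Fi23Orbit.zWord, g < 10 := Fi23Orbit.zWord_lt

theorem zz_mem : zz ∈ J := Fi23Orbit.z.2

include S in
theorem zz_ne : zz ≠ 1 := by
  intro h
  refine Fi23Orbit.zWord_moves ?_
  have h' : S.ρ (val Fi23Orbit.zWord) ⟨1, by omega⟩ = ⟨1, by omega⟩ := by
    rw [show val Fi23Orbit.zWord = 1 from h, map_one]; rfl
  exact (S.fix_iff zWord_lt _).1 h'

theorem zz_fix2 : ∀ m < 3510, ∀ i : Fin 31671, i.1 = get32 Fi23x31671.orbPts2 m → S.ρ zz i = i := by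
  intro m hm i hi
  have h := Nat.eq_of_beq_eq_true (allBelow_iff.1 Fi23Orbit.zWord_fix m hm)
  rw [← hi] at h
  exact (S.fix_iff zWord_lt i).2 h

theorem orb1_moved (a : G) (ha : a ∈ J) (i : Fin 31671) (h : S.ρ a ⟨1, by omega⟩ = i) :
    S.ρ zz i ≠ i := by
  intro hi
  refine Fi23Orbit.zWord_moves ((S.fix_iff zWord_lt ⟨1, by omega⟩).1 ?_)
  apply (S.ρ a).injective
  rw [← Equiv.Perm.mul_apply, ← map_mul, show a * val Fi23Orbit.zWord = zz * a from S.central a ha,
    map_mul, Equiv.Perm.mul_apply, h, hi]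

theorem inO1_mem {i : Fin 31671} (h : inO1 i.1 = true) :
    ∃ a ∈ J, S.ρ a ⟨1, by omega⟩ = i := by
  simp only [inO1, force_eq, Bool.and_eq_true, Nat.blt_eq, Nat.beq_eq] at h
  exact (Fi23x31671.orb1_spec S.ρ S.hρ).2.2 _ h.1 i h.2.symm

/-- The central involution fixes exactly the points outside the long suborbit. -/
theorem zz_fix_iff (i : Fin 31671) : S.ρ zz i = i ↔ inO1 i.1 = false := by
  constructor
  · intro hi
    by_contra h
    rw [Bool.not_eq_false] at h
    obtain ⟨a, ha, hai⟩ := S.inO1_mem h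
    exact S.orb1_moved a ha i hai hi
  · intro h
    have hc := allBelow_iff.1 Cfsg.Agent.S1697.cover i.1 i.2
    simp only [coverAt, force_eq, Bool.or_eq_true, Bool.and_eq_true, Bool.false_eq_true, or_false,
      Nat.beq_eq, Nat.blt_eq] at hc
    rcases hc with h0 | ⟨hp, hq⟩ | ⟨hp, hq⟩
    · rw [show i = o from Fin.ext h0]
      exact (S.hst zz).1 zz_mem
    · have hb : Nat.blt (get32 Fi23x31671.orbPos1 i.1) 28160 = true := by rw [Nat.blt_eq]; exact hp
      simp [inO1, hb, hq] at h
    · exact S.zz_fix2 _ hp i hq.symm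

/-- An element moving the base point to `p`. -/
noncomputable def tr (p : Fin 31671) : G := (S.htr p).choose

theorem tr_spec (p : Fin 31671) : S.ρ (S.tr p) o = p := (S.htr p).choose_spec

/-- The transposition of a point. -/
noncomputable def tp (p : Fin 31671) : G := S.tr p * zz * (S.tr p)⁻¹

theorem tp_eq {p : Fin 31671} {x : G} (hx : S.ρ x o = p) : S.tp p = x * zz * x⁻¹ := by
  have hm : x⁻¹ * S.tr p ∈ J := (S.hst _).2 (by
    rw [map_mul, Equiv.Perm.mul_apply]
    show S.ρ x⁻¹ (S.ρ (S.tr p) o) = o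
    rw [S.tr_spec, ← hx, map_inv]
    simp)
  have h := S.central _ hm
  calc S.tp p = x * (x⁻¹ * S.tr p * zz) * (S.tr p)⁻¹ := by rw [tp]; group
    _ = x * (zz * (x⁻¹ * S.tr p)) * (S.tr p)⁻¹ := by rw [h]
    _ = _ := by group

theorem tp_o : S.tp o = zz := by
  rw [S.tp_eq (x := 1) (by rw [map_one]; rfl)]
  group

theorem tp_conj (x : G) (p : Fin 31671) : x * S.tp p * x⁻¹ = S.tp (S.ρ x p) := by
  rw [S.tp_eq (p := S.ρ x p) (x := x * S.tr p) (by rw [map_mul, Equiv.Perm.mul_apply, S.tr_spec]), tp]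
  group

theorem tp_sq (p : Fin 31671) : S.tp p * S.tp p = 1 := by
  calc S.tp p * S.tp p = S.tr p * (zz * zz) * (S.tr p)⁻¹ := by rw [tp]; group
    _ = 1 := by rw [S.zz_sq]; group

theorem tp_word {r : List ℕ} (hr : ∀ g ∈ r, g < 10) {p : Fin 31671} (h : sc r 0 = p.1) :
    S.tp p = val (twWord r) := by
  have hx : S.ρ (val r)⁻¹ o = p := by
    have := S.move hr (i := o) (j := p) h
    rw [← this, map_inv]
    simp
  rw [S.tp_eq hx, twWord, val_append, val_append, val_reverse r hr, inv_inv, zz]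

theorem twWord_lt {r : List ℕ} (hr : ∀ g ∈ r, g < 10) : ∀ g ∈ twWord r, g < 10 := by
  intro g hg
  simp only [twWord, List.mem_append, List.mem_reverse] at hg
  rcases hg with (hg | hg) | hg
  exacts [hr g hg, zWord_lt g hg, hr g hg]

theorem tp_eq_zz {p : Fin 31671} (h : S.tp p = zz) : p = o := by
  have hx : S.tr p * zz = zz * S.tr p := by
    rw [tp] at h
    exact mul_inv_eq_iff_eq_mul.1 h
  have hfix : S.ρ zz p = p := by
    conv_lhs => rw [← S.tr_spec p]
    rw [← Equiv.Perm.mul_apply, ← map_mul, ← hx, map_mul, Equiv.Perm.mul_apply,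
      show S.ρ zz o = o from (S.hst zz).1 zz_mem, S.tr_spec]
  have hno1 := (S.zz_fix_iff p).1 hfix
  have hc := allBelow_iff.1 Cfsg.Agent.S1697.cover p.1 p.2
  simp only [coverAt, force_eq, Bool.or_eq_true, Bool.and_eq_true, Bool.false_eq_true, or_false,
    Nat.beq_eq, Nat.blt_eq] at hc
  rcases hc with h0 | ⟨hp, hq⟩ | ⟨hp, hq⟩
  · exact Fin.ext h0
  · have hb : Nat.blt (get32 Fi23x31671.orbPos1 p.1) 28160 = true := by rw [Nat.blt_eq]; exact hp
    simp [inO1, hb, hq] at hno1
  · exfalso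
    obtain ⟨a, ha, hap⟩ := (Fi23x31671.orb2_spec S.ρ S.hρ).2.2 _ hp p hq.symm
    have h52 : S.tp ⟨52, by omega⟩ = zz := by
      rw [← hap, ← S.tp_conj, mul_inv_eq_iff_eq_mul, ← S.central a ha] at h
      exact mul_left_cancel h
    obtain ⟨-, -, hr, -, hlt, -, -, hw1, hw2, hw3⟩ := reps_ok
    have hr' : ∀ g ∈ rep52, g < 10 := fun g hg => by
      have := List.all_eq_true.1 hlt g (by simp [hg])
      rwa [Nat.blt_eq] at this
    rw [S.tp_word hr' (p := ⟨52, by omega⟩) hr] at h52
    refine hw3 ((S.fix_iff (twWord_lt hr') ⟨wit52, hw2⟩).1 ?_)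
    rw [h52]
    exact (S.zz_fix_iff _).2 hw1

theorem tp_inj {p q : Fin 31671} (h : S.tp p = S.tp q) : p = q := by
  have e : S.tp (S.ρ (S.tr q)⁻¹ p) = zz := by
    rw [← S.tp_conj, h, tp]
    group
  have := S.tp_eq_zz e
  rw [map_inv, Equiv.Perm.inv_eq_iff_eq, S.tr_spec] at this
  exact this

/-- Two transpositions commute exactly when one fixes the point of the other. -/
theorem comm_iff (p q : Fin 31671) : Commute (S.tp p) (S.tp q) ↔ S.ρ (S.tp p) q = q := by
  constructor
  · intro h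
    refine S.tp_inj ?_
    rw [← S.tp_conj, h.eq]
    group
  · intro h
    have := S.tp_conj (S.tp p) q
    rw [h, mul_inv_eq_iff_eq_mul] at this
    exact this

/-- The standard points. -/
def pt (k : ℕ) : Fin 31671 := if h : ptL.getD k 0 < 31671 then ⟨ptL.getD k 0, h⟩ else ⟨0, by omega⟩

theorem pt_val {k : ℕ} (hk : k < 11) : (pt k).1 = ptL.getD k 0 := by
  have h := allBelow_iff.1 univ_ok.2.2.2.2.2 k hk
  rw [Nat.blt_eq] at h
  rw [pt, dif_pos h]

/-- One step along an edge of the diagram. -/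
theorem tp_step {A B m k : ℕ} (hm : S.tp (pt m) = val [A]) (hA : A < 10) (hB : B < 10)
    (hsc : sc [A, B] (pt k).1 = (pt m).1)
    (hbr : Fi23x31671.letters.RL.any (fun l =>
      eqList l [A, B, A, B, A, B] || eqList l [B, A, B, A, B, A]) = true) :
    S.tp (pt k) = val [B] := by
  have hw : ∀ g ∈ [A, B], g < 10 := by simp [hA, hB]
  have h := S.tp_conj (val [A, B]) (pt m)
  rw [S.move hw hsc, hm] at h
  rw [← h, show val [A, B] = val [A] * val [B] from val_append [A] [B]]
  obtain ⟨l, hl, hle⟩ := List.any_eq_true.1 hbr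
  have hiA := eq_inv_of_mul_eq_one_left (val_letter_sq hA)
  have hiB := eq_inv_of_mul_eq_one_left (val_letter_sq hB)
  have hrel := val_rel hl
  have h6 : ∀ C D : ℕ, val [C, D, C, D, C, D] = val [C] * val [D] * val [C] * val [D] * val [C] * val [D] :=
    fun C D => by simp [val, mul_assoc]
  have hsq := val_letter_sq hA
  have hsqB := val_letter_sq hB
  generalize ha : val [A] = a at hiA hsq ⊢
  generalize hb : val [B] = b at hiB hsqB ⊢
  have hbr' : a * b * a * b * a = b := by
    rw [Bool.or_eq_true] at hle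
    rcases hle with he | he <;> rw [eqList_eq he, h6, ha, hb] at hrel
    · have e : a * b * a * b * a = b⁻¹ := eq_inv_of_mul_eq_one_left (by simpa [mul_assoc] using hrel)
      rwa [← hiB] at e
    · have e : b * a * b * a * b * a = 1 := by simpa [mul_assoc] using hrel
      have e' : a * b * a * b * a = b⁻¹ := eq_inv_of_mul_eq_one_right (by simpa [mul_assoc] using e)
      rwa [← hiB] at e'
  calc a * b * a * (a * b)⁻¹ = a * b * a * b * a := by rw [mul_inv_rev, ← hiA, ← hiB]; group
    _ = b := hbr'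

/-- The transposition of the standard point of a node is its letter. -/
theorem tp_pt : ∀ k, k < 11 → k ≠ 0 → S.tp (pt k) = val [nodeL.getD k 0] := by
  obtain ⟨-, -, -, hj, hlt, -⟩ := reps_ok
  have hr : ∀ g ∈ repJ, g < 10 := fun g hg => by
    have := List.all_eq_true.1 hlt g (by simp [hg])
    rwa [Nat.blt_eq] at this
  obtain ⟨h0, h1, h2⟩ := jword_ok
  have hw : ∀ g ∈ repJ ++ [7] ++ repJ.reverse, g < 10 := by
    intro g hg
    simp only [List.mem_append, List.mem_reverse, List.mem_singleton] at hg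
    rcases hg with (hg | rfl) | hg
    exacts [hr g hg, by norm_num, hr g hg]
  have hmem : val (repJ ++ [7] ++ repJ.reverse) ∈ J :=
    (S.hst _).2 ((S.fix_iff hw o).2 h0)
  have hz : val (repJ ++ [7] ++ repJ.reverse) = zz := by
    rcases S.kerJ _ hmem (fun m hm i hi => (S.fix_iff hw i).2 (by
      have h := Nat.eq_of_beq_eq_true (by simpa using allBelow_iff.1 h2 m hm :
        Nat.beq (sc (repJ ++ [7] ++ repJ.reverse) (get32 Fi23x31671.orbPts2 m))
          (get32 Fi23x31671.orbPts2 m) = true)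
      rwa [← hi] at h)) with h | h
    · refine absurd ((S.fix_iff hw ⟨1, by omega⟩).1 ?_) h1
      rw [h, map_one]; rfl
    · exact h
  have hbase : S.tp (pt 1) = val [7] := by
    rw [S.tp_word hr (p := pt 1) (hj.trans (pt_val (by norm_num)).symm), twWord, val_append,
      val_append, val_reverse _ hr, show val Fi23Orbit.zWord = zz from rfl, ← hz, val_append,
      val_append, val_reverse _ hr]
    group
  have hb := braid_ok
  simp only [List.all_eq_true, List.mem_cons, List.not_mem_nil, or_false] at hb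
  have h2' := S.tp_step (m := 1) (k := 2) (B := 6) hbase (by norm_num) (by norm_num)
    (by decide +kernel) (hb (7, 6) (by simp))
  have h3' := S.tp_step (m := 2) (k := 3) (B := 5) h2' (by norm_num) (by norm_num)
    (by decide +kernel) (hb (6, 5) (by simp))
  have h4' := S.tp_step (m := 3) (k := 4) (B := 4) h3' (by norm_num) (by norm_num)
    (by decide +kernel) (hb (5, 4) (by simp))
  have h5' := S.tp_step (m := 4) (k := 5) (B := 3) h4' (by norm_num) (by norm_num)
    (by decide +kernel) (hb (4, 3) (by simp))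
  have h6' := S.tp_step (m := 5) (k := 6) (B := 8) h5' (by norm_num) (by norm_num)
    (by decide +kernel) (hb (3, 8) (by simp))
  have h7' := S.tp_step (m := 6) (k := 7) (B := 9) h6' (by norm_num) (by norm_num)
    (by decide +kernel) (hb (8, 9) (by simp))
  have h8' := S.tp_step (m := 5) (k := 8) (B := 2) h5' (by norm_num) (by norm_num)
    (by decide +kernel) (hb (3, 2) (by simp))
  have h9' := S.tp_step (m := 8) (k := 9) (B := 1) h8' (by norm_num) (by norm_num)
    (by decide +kernel) (hb (2, 1) (by simp))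
  have h10' := S.tp_step (m := 9) (k := 10) (B := 0) h9' (by norm_num) (by norm_num)
    (by decide +kernel) (hb (1, 0) (by simp))
  intro k hk hk0
  match k, hk with
  | 0, _ => exact absurd rfl hk0
  | 1, _ => exact hbase
  | 2, _ => exact h2'
  | 3, _ => exact h3'
  | 4, _ => exact h4'
  | 5, _ => exact h5'
  | 6, _ => exact h6'
  | 7, _ => exact h7'
  | 8, _ => exact h8'
  | 9, _ => exact h9'
  | 10, _ => exact h10'

end Setup

end Cfsg.Agent.Lib.CosetEnum.Fi23Out
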