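import Cfsg.Agent.Lib.CosetEnum.Fi23Out.Facts

/-! An automorphism of Fi23 sends transpositions to transpositions. -/

set_option autoImplicit false
set_option maxRecDepth 20000
set_option Elab.async false

namespace Cfsg.Agent.Lib.CosetEnum.Fi23Out

open Cfsg.Agent.Lib.CosetEnum

/-- Three points permuted by an involution: one of them is fixed. -/
theorem fixed_of_three {α : Type} (f : α → α) (hf : ∀ i, f (f i) = i) (a b c : α)
    (hab : a ≠ b) (hac : a ≠ c) (hbc : b ≠ c)
    (ha : f a = a ∨ f a = b ∨ f a = c) (hb : f b = a ∨ f b = b ∨ f b = c)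
    (hc : f c = a ∨ f c = b ∨ f c = c) : f a = a ∨ f b = b ∨ f c = c := by
  rcases ha with ha | ha | ha
  · exact Or.inl ha
  · rcases hc with hc | hc | hc
    · exact absurd (by rw [← ha, ← hc, hf] : b = c) hbc
    · exact absurd (by rw [← hf a, ha, ← hc, hf] : a = c) hac
    · exact Or.inr (Or.inr hc)
  · rcases hb with hb | hb | hb
    · exact absurd (by rw [← ha, ← hb, hf] : c = b) (Ne.symm hbc)
    · exact Or.inr (Or.inl hb)
    · exact absurd (by rw [← hf a, ha, ← hb, hf] : a = b) hab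

namespace Setup

variable (S : Setup)

include S in
theorem elt_facts : val wx ∈ J ∧ val wx ^ 13 = 1 ∧ orderOf (val wx) = 13 := by
  obtain ⟨hlt, h0, h1, h13, h13'⟩ := wx_ok
  have hw : ∀ g ∈ wx, g < 10 := fun g hg => by
    have := List.all_eq_true.1 hlt g hg
    rwa [Nat.blt_eq] at this
  have hw13 : ∀ g ∈ (List.replicate 13 wx).flatten, g < 10 := by
    intro g hg
    obtain ⟨l, hl, hgl⟩ := List.mem_flatten.1 hg
    rw [List.eq_of_mem_replicate hl] at hgl
    exact hw g hgl
  have hv : ∀ n, val (List.replicate n wx).flatten = val wx ^ n := by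
    intro n
    induction n with
    | zero => simp [val]
    | succ n ih => rw [List.replicate_succ, List.flatten_cons, val_append, ih, pow_succ']
  have hmem : val wx ∈ J := (S.hst _).2 ((S.fix_iff hw o).2 h0)
  have hpow : val wx ^ 13 = 1 := by
    rcases S.kerJ _ (pow_mem hmem 13) (fun m hm i hi => by
      rw [← hv]
      refine (S.fix_iff hw13 i).2 ?_
      have h := allBelow_iff.1 h13' m hm
      simp only [force_eq, Nat.beq_eq] at h
      rwa [← hi] at h) with h | h
    · exact h
    · exfalso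
      refine Fi23Orbit.zWord_moves ((S.fix_iff zWord_lt ⟨1, by omega⟩).1 ?_)
      rw [show val Fi23Orbit.zWord = val (List.replicate 13 wx).flatten from h.symm.trans (hv 13).symm]
      exact (S.fix_iff hw13 _).2 h13
  have hne : val wx ≠ 1 := by
    intro h
    refine h1 ((S.fix_iff hw ⟨1, by omega⟩).1 ?_)
    rw [h, map_one]; rfl
  haveI : Fact (Nat.Prime 13) := ⟨by norm_num⟩
  exact ⟨hmem, hpow, orderOf_eq_prime hpow hne⟩

/-- An involution commuting with the element of order 13 is a transposition. -/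
theorem invol_cent (y : G) (hy : y * y = 1) (hy1 : y ≠ 1) (hc : y * val wx = val wx * y) :
    ∃ p, y = S.tp p := by
  obtain ⟨hmem, -, hord⟩ := S.elt_facts
  obtain ⟨hlt, h0, -⟩ := wx_ok
  obtain ⟨hA, hB, -, -, hrl, hA', hB', -⟩ := reps_ok
  have hw : ∀ g ∈ wx, g < 10 := fun g hg => by
    have := List.all_eq_true.1 hlt g hg
    rwa [Nat.blt_eq] at this
  -- a fixed point of y among those of x gives a conjugate inside the stabiliser
  have hmain : ∀ i : Fin 31671, S.ρ (val wx) i = i → S.ρ y i = i → y = S.tp i := by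
    intro i hxi hyi
    have hfix : ∀ g : G, S.ρ g i = i → (S.tr i)⁻¹ * g * S.tr i ∈ J := by
      intro g hg
      refine (S.hst _).2 ?_
      rw [map_mul, map_mul, Equiv.Perm.mul_apply, Equiv.Perm.mul_apply]
      show S.ρ (S.tr i)⁻¹ (S.ρ g (S.ρ (S.tr i) o)) = o
      rw [S.tr_spec, hg, map_inv, Equiv.Perm.inv_eq_iff_eq, S.tr_spec]
    have h := S.cent13 _ (hfix _ hxi) _ (hfix _ hyi)
      (by
        have e : (S.tr i)⁻¹ * val wx * S.tr i = MulAut.conj (S.tr i)⁻¹ (val wx) := by
          simp [MulAut.conj_apply]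
        rw [e]
        exact ((MulAut.conj (S.tr i)⁻¹).orderOf_eq (val wx)).trans hord)
      (by
        calc _ = (S.tr i)⁻¹ * (y * val wx) * S.tr i := by group
          _ = _ := by rw [hc]; group)
      (by
        calc _ = (S.tr i)⁻¹ * (y * y) * S.tr i := by group
          _ = _ := by rw [hy]; group)
      (fun e => hy1 (by
        calc y = S.tr i * ((S.tr i)⁻¹ * y * S.tr i) * (S.tr i)⁻¹ := by group
          _ = 1 := by rw [e]; group))
    rw [tp, ← h]
    group
  -- the three fixed points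
  let a : Fin 31671 := ⟨fixA, hA'⟩
  let b : Fin 31671 := ⟨fixB, hB'⟩
  have hset : ∀ i : Fin 31671, S.ρ (val wx) i = i → i = o ∨ i = a ∨ i = b := by
    intro i hi
    have h := allBelow_iff.1 fix_wx i.1 i.2
    simp only [(S.fix_iff hw i).1 hi, Bool.or_eq_true, Nat.beq_eq, Bool.not_eq_true'] at h
    rcases h with h | (h | h) | h
    · rw [Nat.beq_refl] at h; simp at h
    · exact Or.inl (Fin.ext h)
    · exact Or.inr (Or.inl (Fin.ext h))
    · exact Or.inr (Or.inr (Fin.ext h))
  obtain ⟨hfa, hfb⟩ : S.ρ (val wx) a = a ∧ S.ρ (val wx) b = b :=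
    ⟨(S.fix_iff hw a).2 (show sc wx fixA = fixA by decide +kernel),
      (S.fix_iff hw b).2 (show sc wx fixB = fixB by decide +kernel)⟩
  have hfo : S.ρ (val wx) o = o := (S.fix_iff hw o).2 h0
  have hperm : ∀ i, S.ρ (val wx) i = i → S.ρ (val wx) (S.ρ y i) = S.ρ y i := by
    intro i hi
    rw [← Equiv.Perm.mul_apply, ← map_mul, ← hc, map_mul, Equiv.Perm.mul_apply, hi]
  have hinv : ∀ i, S.ρ y (S.ρ y i) = i := fun i => by
    rw [← Equiv.Perm.mul_apply, ← map_mul, hy, map_one]; rfl
  rcases fixed_of_three (S.ρ y) hinv o a b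
      (fun e => absurd (congrArg Fin.val e) (by decide +kernel : (0 : ℕ) ≠ fixA))
      (fun e => absurd (congrArg Fin.val e) (by decide +kernel : (0 : ℕ) ≠ fixB))
      (fun e => absurd (congrArg Fin.val e) (by decide +kernel : fixA ≠ fixB))
      (hset _ (hperm _ hfo)) (hset _ (hperm _ hfa)) (hset _ (hperm _ hfb)) with h | h | h
  exacts [⟨_, hmain _ hfo h⟩, ⟨_, hmain _ hfa h⟩, ⟨_, hmain _ hfb h⟩]

/-- An automorphism maps the class of z to itself. -/
theorem image_zz (φ : MulAut G) : ∃ p, φ zz = S.tp p := by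
  classical
  haveI : Finite G := Nat.finite_of_card_ne_zero (by rw [S.card]; norm_num)
  haveI : Fact (Nat.Prime 13) := ⟨by norm_num⟩
  obtain ⟨hmem, -, hord⟩ := S.elt_facts
  have hsylow : ∀ u : G, orderOf u = 13 →
      Nat.card (Subgroup.zpowers u) = 13 ^ (Nat.card G).factorization 13 := by
    intro u hu
    have h1 : (Nat.card G).factorization 13 = 1 := by
      rw [S.card]
      have hp : Nat.Prime 13 := by norm_num
      have a1 : 1 ≤ (4089470473293004800 : ℕ).factorization 13 :=
        (hp.pow_dvd_iff_le_factorization (by norm_num)).1 (by norm_num)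
      have a2 : ¬ 2 ≤ (4089470473293004800 : ℕ).factorization 13 := fun h =>
        absurd ((hp.pow_dvd_iff_le_factorization (by norm_num)).2 h) (by norm_num)
      omega
    rw [Nat.card_zpowers, hu, h1, pow_one]
  have hordφ : orderOf (φ (val wx)) = 13 := by rw [φ.orderOf_eq]; exact hord
  obtain ⟨g, hg⟩ := MulAction.exists_smul_eq G
    (Sylow.ofCard _ (hsylow _ hordφ)) (Sylow.ofCard _ (hsylow _ hord))
  have hmem' : g * φ (val wx) * g⁻¹ ∈ Subgroup.zpowers (val wx) := by
    have h : g * φ (val wx) * g⁻¹ ∈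
        ((g • Sylow.ofCard _ (hsylow _ hordφ) : Sylow 13 G) : Subgroup G) := by
      rw [Sylow.coe_subgroup_smul, Subgroup.mem_pointwise_smul_iff_inv_smul_mem]
      simp [MulAut.smul_def, mul_assoc]
    rw [hg] at h
    exact h
  have hord' : orderOf (g * φ (val wx) * g⁻¹) = 13 := by
    rw [← hordφ]; exact (MulAut.conj g).orderOf_eq _
  have hxmem : val wx ∈ Subgroup.zpowers (g * φ (val wx) * g⁻¹) := by
    have heq : Subgroup.zpowers (g * φ (val wx) * g⁻¹) = Subgroup.zpowers (val wx) :=
      Subgroup.eq_of_le_of_card_ge (Subgroup.zpowers_le.2 hmem')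
        (by rw [Nat.card_zpowers, Nat.card_zpowers, hord, hord'])
    rw [heq]; exact Subgroup.mem_zpowers _
  obtain ⟨i, hi⟩ := Subgroup.mem_zpowers_iff.1 hxmem
  have hzx : zz * val wx = val wx * zz := (S.central _ hmem).symm
  have hc : Commute (g * φ zz * g⁻¹) (val wx) := by
    rw [← hi]
    refine Commute.zpow_right ?_ i
    show g * φ zz * g⁻¹ * (g * φ (val wx) * g⁻¹) = g * φ (val wx) * g⁻¹ * (g * φ zz * g⁻¹)
    calc g * φ zz * g⁻¹ * (g * φ (val wx) * g⁻¹) = g * φ (zz * val wx) * g⁻¹ := by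
          rw [map_mul]; group
      _ = g * φ (val wx * zz) * g⁻¹ := by rw [hzx]
      _ = _ := by rw [map_mul]; group
  obtain ⟨p, hp⟩ := S.invol_cent (g * φ zz * g⁻¹)
    (by
      calc _ = g * φ (zz * zz) * g⁻¹ := by rw [map_mul]; group
        _ = _ := by rw [S.zz_sq, map_one]; group)
    (fun e => S.zz_ne (φ.injective (by rw [map_one]; exact conj_eq_one_iff.1 e))) hc.eq
  refine ⟨S.ρ g⁻¹ p, ?_⟩
  rw [← S.tp_conj, ← hp]
  group

end Setup

end Cfsg.Agent.Lib.CosetEnum.Fi23Out
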